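import Groth.Agent.Lib.AdjGroth8.Noeth
import Mathlib.CategoryTheory.Abelian.GrothendieckCategory.Basic
import Mathlib.CategoryTheory.Abelian.GrothendieckAxioms.Colim
import Mathlib.CategoryTheory.Generator.Basic
import Mathlib.CategoryTheory.Limits.Shapes.Pullback.IsPullback.Basic
import Mathlib.CategoryTheory.Limits.Preserves.Shapes.Pullbacks
import Mathlib.CategoryTheory.Limits.Connected
import Mathlib.CategoryTheory.Adjunction.Limits
import Mathlib.Data.Finset.Image
import Mathlib.CategoryTheory.Adjunction.Additive
import Mathlib.CategoryTheory.Limits.Preserves.Filtered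

/-!
# Descending AB5 and generators along a faithful exact left adjoint
-/

set_option autoImplicit false

universe w u₁ u₂ u

open CategoryTheory CategoryTheory.Limits Groth.Agent.AR

attribute [local instance] IsFiltered.isConnected

namespace Groth.Agent.AdjGroth8

/-- A factorisation gives an inequality of images. -/
theorem imageSubobject_le_of_fac' {C : Type u} [Category.{w} C] [Abelian C] {X Y Z : C} {f : X ⟶ Z} {g : Y ⟶ Z}
    (e : X ⟶ Y) (h : e ≫ g = f) : imageSubobject f ≤ imageSubobject g := by
  subst h; exact imageSubobject_comp_le e g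

section AB5

variable {C : Type u} [Category.{w} C] [Abelian C] {J : Type w} [SmallCategory J] [IsFiltered J]

/-- Pullbacks of jointly epimorphic filtered cocones are jointly epimorphic. -/
theorem jointlyEpi_pullback [HasColimitsOfShape J C] [HasExactColimitsOfShape J C] {D : J ⥤ C} {X W : C}
    (γ : D ⟶ (Functor.const J).obj X)
    (hγ : ∀ ⦃Z : C⦄ (z : X ⟶ Z), (∀ j, γ.app j ≫ z = 0) → z = 0) (f : W ⟶ X) :
    ∀ ⦃Z : C⦄ (z : W ⟶ Z), (∀ j, pullback.fst f (γ.app j) ≫ z = 0) → z = 0 := by
  intro Z z hz
  let a : (Functor.const J).obj W ⟶ (Functor.const J).obj X := (Functor.const J).map f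
  let c : Cocone D := ⟨X, γ⟩
  let d : colimit D ⟶ X := colimit.desc D c
  haveI : Epi d := Preadditive.epi_of_cancel_zero _ fun {Z} z hz => hγ z fun j => by
    have := congrArg (colimit.ι D j ≫ ·) hz
    simpa [d, c] using this
  let eW : colimit ((Functor.const J).obj W) ≅ W :=
    (colimit.isColimit _).coconePointUniqueUpToIso (isColimitConstCocone J W)
  let eX : colimit ((Functor.const J).obj X) ≅ X :=
    (colimit.isColimit _).coconePointUniqueUpToIso (isColimitConstCocone J X)
  have hW : ∀ j, colimit.ι ((Functor.const J).obj W) j ≫ eW.hom = 𝟙 W := fun j =>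
    (colimit.isColimit _).comp_coconePointUniqueUpToIso_hom (isColimitConstCocone J W) j
  have hX : ∀ j, colimit.ι ((Functor.const J).obj X) j ≫ eX.hom = 𝟙 X := fun j =>
    (colimit.isColimit _).comp_coconePointUniqueUpToIso_hom (isColimitConstCocone J X) j
  have hd : colim.map γ ≫ eX.hom = d := colimit.hom_ext fun j => by
    simp [d, c, reassoc_of% (colimit.ι_map γ j), hX]
  haveI : Epi (colim.map γ) := by
    have : colim.map γ = d ≫ eX.inv := by rw [← hd, Category.assoc, Iso.hom_inv_id, Category.comp_id]
    rw [this]; infer_instance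
  have sq := (IsPullback.of_hasPullback a γ).map (colim (J := J) (C := C))
  haveI : Epi (colim.map (pullback.fst a γ)) := by
    have : colim.map (pullback.fst a γ) = sq.isoPullback.hom ≫ pullback.fst _ _ :=
      sq.isoPullback_hom_fst.symm
    rw [this]; infer_instance
  rw [← cancel_epi eW.hom, comp_zero, ← cancel_epi (colim.map (pullback.fst a γ)), comp_zero]
  refine colimit.hom_ext fun j => ?_
  simp only [comp_zero]
  erw [colimit.ι_map_assoc, reassoc_of% (hW j)]
  let e := ((IsPullback.of_hasPullback a γ).map ((evaluation J C).obj j)).isoPullback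
  have he : e.hom ≫ pullback.fst f (γ.app j) = (pullback.fst a γ).app j :=
    ((IsPullback.of_hasPullback a γ).map ((evaluation J C).obj j)).isoPullback_hom_fst
  rw [← he, Category.assoc]
  erw [Category.id_comp, hz, comp_zero]

end AB5

variable {A : Type u₁} [Category.{w} A] [Abelian A] [HasColimitsOfSize.{w, w} A]
  {B : Type u₂} [Category.{w} B] [Abelian B] [HasColimitsOfSize.{w, w} B] [AB5OfSize.{w, w} B]
  {F : A ⥤ B} {G : B ⥤ A} (adj : F ⊣ G) [F.Additive] [F.Faithful] [PreservesFiniteLimits F]

include adj

/-- AB5 descends along a faithful exact left adjoint. -/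
theorem ab5 : AB5OfSize.{w, w} A where
  ofShape J _ _ := by
    haveI := adj.leftAdjoint_preservesColimits
    haveI : (colim (J := J) (C := A)).PreservesMonomorphisms := ⟨fun {D E} α hα => by
      haveI : ∀ j, Mono (α.app j) := fun j => (NatTrans.mono_iff_mono_app α).1 hα j
      haveI : ∀ j, Mono ((Functor.whiskerRight α F).app j) := fun j => F.map_mono (α.app j)
      haveI := NatTrans.mono_of_mono_app (Functor.whiskerRight α F)
      apply F.mono_of_mono_map
      exact colim.map_mono' (Functor.whiskerRight α F) (isColimitOfPreserves F (colimit.isColimit D))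
        (isColimitOfPreserves F (colimit.isColimit E)) (F.map (colim.map α)) (fun j =>
          (F.map_comp _ _).symm.trans ((congrArg F.map (colimit.ι_map α j)).trans (F.map_comp _ _)))⟩
    exact hasExactColimitsOfShape_of_preservesMono A J

theorem mono_unit_app (a : A) : Mono (adj.unit.app a) := by
  haveI : IsSplitMono (F.map (adj.unit.app a)) :=
    IsSplitMono.mk' ⟨adj.counit.app (F.obj a), adj.left_triangle_components a⟩
  exact F.mono_of_mono_map inferInstance

theorem small_subobject [WellPowered.{w} B] (X : A) : Small.{w} (Subobject X) := by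
  have key : ∀ S T : Subobject X, Subobject.mk (F.map S.arrow) ≤ Subobject.mk (F.map T.arrow) → S ≤ T := by
    intro S T h
    have h2 : F.map (S.arrow ≫ cokernel.π T.arrow) = F.map 0 := by
      rw [F.map_comp, F.map_zero, ← Subobject.ofMkLEMk_comp h, Category.assoc, ← F.map_comp, cokernel.condition,
        F.map_zero, comp_zero]
    have h3 := F.map_injective h2
    have hT : (ShortComplex.mk T.arrow (cokernel.π T.arrow) (cokernel.condition _)).Exact :=
      ShortComplex.exact_of_g_is_cokernel _ (cokernelIsCokernel _)
    exact Subobject.le_of_comm (hT.lift S.arrow h3) (hT.lift_f S.arrow h3)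
  exact small_of_injective (f := fun S : Subobject X => Subobject.mk (F.map S.arrow))
    fun S T e => le_antisymm (key S T e.le) (key T S e.ge)

variable {ι : Type w} (s : ι → B)
  (hsep : ∀ ⦃X Y : B⦄ (f g : X ⟶ Y), (∀ (i : ι) (h : s i ⟶ X), h ≫ f = h ≫ g) → f = g)

/-- The finitely generated subobjects of an object. -/
noncomputable def fgSub {Y : B} (T : Finset (Σ i : ι, s i ⟶ Y)) : Subobject Y :=
  T.sup fun h => imageSubobject h.2

/-- Their pullbacks to an object along the unit. -/
noncomputable abbrev trace {a : A} (n : Subobject (F.obj a)) : A := pullback (adj.unit.app a) (G.map n.arrow)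

/-- The inclusion of a trace. -/
noncomputable abbrev traceι {a : A} (n : Subobject (F.obj a)) : trace adj n ⟶ a := pullback.fst _ _

theorem mono_map_trace {a : A} (n : Subobject (F.obj a)) :
    (adj.homEquiv _ _).symm (pullback.snd (adj.unit.app a) (G.map n.arrow)) ≫ n.arrow = F.map (traceι adj n) := by
  rw [← Adjunction.homEquiv_naturality_right_symm, ← pullback.condition, Adjunction.homEquiv_naturality_left_symm]
  simp [Adjunction.homEquiv_counit]

variable [PreservesFilteredColimitsOfSize.{w, w} G]

include hsep

theorem jointlyEpi_trace (a : A) :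
    (∀ ⦃Z : A⦄ (z : a ⟶ Z), (∀ T, traceι adj (fgSub s (Y := F.obj a) T) ≫ z = 0) → z = 0) := by
  classical
  let n : Finset (Σ i : ι, s i ⟶ F.obj a) → Subobject (F.obj a) := fgSub s
  have hn : Monotone n := fun T T' h => Finset.sup_mono h
  let D : Finset (Σ i : ι, s i ⟶ F.obj a) ⥤ B := hn.functor ⋙ Subobject.underlying
  let γ : D ⟶ (Functor.const _).obj (F.obj a) :=
    { app := fun T => (n T).arrow
      naturality := fun T T' g => (Subobject.underlying_arrow _).trans (Category.comp_id _).symm }
  haveI : ∀ T, Mono (γ.app T) := fun T => inferInstanceAs (Mono (n T).arrow)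
  haveI := NatTrans.mono_of_mono_app γ
  let d : colimit D ⟶ F.obj a := colimit.desc D ⟨_, γ⟩
  haveI : Mono d := colim.map_mono' γ (colimit.isColimit D) (isColimitConstCocone _ _) d (fun j => (colimit.ι_desc _ j).trans (Category.comp_id _).symm)
  haveI : Epi d := Preadditive.epi_of_cancel_zero _ fun {Z} z hz => by
    refine hsep z 0 fun i h => ?_
    have h1 : (n {⟨i, h⟩}).Factors h := by
      simp only [n, fgSub, Finset.sup_singleton]
      simpa using imageSubobject_factors_comp_self (f := h) (𝟙 _)
    have h2 := congrArg (colimit.ι D {⟨i, h⟩} ≫ ·) hz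
    simp only [d, colimit.ι_desc_assoc, comp_zero] at h2
    rw [comp_zero, ← Subobject.factorThru_arrow _ h h1, Category.assoc]
    exact (congrArg (_ ≫ ·) h2).trans comp_zero
  haveI := isIso_of_mono_of_epi d
  let c : Cocone D := ⟨F.obj a, γ⟩
  have hc : IsColimit c := IsColimit.ofIsoColimit (colimit.isColimit D)
    (Cocone.ext (asIso d) fun j => by simp [d, c])
  have hG := isColimitOfPreserves G hc
  let γ' : D ⋙ G ⟶ (Functor.const _).obj (G.obj (F.obj a)) :=
    { app := fun T => G.map (γ.app T)
      naturality := fun T T' g => by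
        dsimp
        rw [← G.map_comp, γ.naturality]
        simp }
  haveI := ab5 adj
  exact jointlyEpi_pullback γ' (fun Z z hz => hG.hom_ext fun j => by
    rw [comp_zero]; exact hz j) (adj.unit.app a)

omit hsep in
theorem jointlyEpi_map {J : Type*} {a : A} {P : J → A} (p : ∀ j, P j ⟶ a)
    (h : ∀ ⦃Z : A⦄ (z : a ⟶ Z), (∀ j, p j ≫ z = 0) → z = 0) :
    ∀ ⦃Z : B⦄ (z : F.obj a ⟶ Z), (∀ j, F.map (p j) ≫ z = 0) → z = 0 := fun Z z hz => by
  haveI : G.Additive := adj.right_adjoint_additive
  have := h (adj.homEquiv _ _ z) fun j => by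
    rw [← Adjunction.homEquiv_naturality_left, hz]
    simp [Adjunction.homEquiv_unit]
  apply (adj.homEquiv _ _).injective
  rw [this]
  simp [Adjunction.homEquiv_unit]

/-- A noetherian object maps to a finitely generated one. -/
theorem exists_fgSub_eq_top (a : A) [IsNoetherianObject a] :
    ∃ T, fgSub s (Y := F.obj a) T = ⊤ := by
  classical
  let m : Finset (Σ i : ι, s i ⟶ F.obj a) → Subobject a := fun T =>
    imageSubobject (traceι adj (fgSub s T))
  have hm : Monotone m := fun T T' h => by
    have hT : fgSub s T ≤ fgSub s T' := Finset.sup_mono h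
    refine imageSubobject_le_of_fac' (pullback.lift (traceι adj (fgSub s T))
      (pullback.snd _ _ ≫ G.map (Subobject.ofLE _ _ hT)) ?_) (pullback.lift_fst _ _ _)
    rw [Category.assoc, ← G.map_comp, Subobject.ofLE_arrow, pullback.condition]
  obtain ⟨_, ⟨T₀, rfl⟩, hmax⟩ := wellFounded_gt.has_min (Set.range m) ⟨_, ∅, rfl⟩
  have htop : m T₀ = ⊤ := by
    have hall : ∀ T, m T ≤ m T₀ := fun T => by
      have h1 : m T₀ ≤ m (T ∪ T₀) := hm Finset.subset_union_right
      rw [h1.eq_of_not_lt (hmax _ ⟨_, rfl⟩)]
      exact hm Finset.subset_union_left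
    have h0 : cokernel.π (m T₀).arrow = 0 := jointlyEpi_trace adj s hsep a _ fun T => by
      have hf : (m T₀).Factors (traceι adj (fgSub s T)) := Subobject.factors_of_le _ (hall T)
        ((image_le_subobject_iff _ _).1 le_rfl)
      rw [← Subobject.factorThru_arrow _ _ hf, Category.assoc, cokernel.condition, comp_zero]
    haveI : Epi (m T₀).arrow := Preadditive.epi_of_isZero_cokernel _
      ((IsZero.iff_id_eq_zero _).2 (by rw [← cancel_epi (cokernel.π (m T₀).arrow), h0, zero_comp, zero_comp]))
    haveI := isIso_of_mono_of_epi (m T₀).arrow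
    exact Subobject.eq_top_of_isIso_arrow _
  refine ⟨T₀, ?_⟩
  haveI : Epi (traceι adj (fgSub s T₀)) := Preadditive.epi_of_cancel_zero _ fun {Z} z hz => by
    haveI : IsIso (m T₀).arrow := by rw [htop]; infer_instance
    rw [← cancel_epi (m T₀).arrow, comp_zero]
    exact imageSubobject_arrow_comp_eq_zero hz |> id
  haveI := adj.leftAdjoint_preservesColimits
  haveI : Epi (fgSub s T₀).arrow := by
    have := mono_map_trace adj (fgSub s (Y := F.obj a) T₀)
    exact epi_of_epi_fac this
  haveI := isIso_of_mono_of_epi (fgSub s (Y := F.obj a) T₀).arrow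
  exact Subobject.eq_top_of_isIso_arrow _

end Groth.Agent.AdjGroth8
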