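import Groth.Agent.Lib.AdjGroth8.Basic

/-!
# Noetherian objects and generators along a faithful exact left adjoint
-/

set_option autoImplicit false

universe w u₁ u₂

open CategoryTheory CategoryTheory.Limits Groth.Agent.AR

namespace Groth.Agent.AdjGroth8

variable {A : Type u₁} [Category.{w} A] [Abelian A] [HasColimitsOfSize.{w, w} A]
  {B : Type u₂} [Category.{w} B] [Abelian B] [HasColimitsOfSize.{w, w} B] [AB5OfSize.{w, w} B]
  {F : A ⥤ B} {G : B ⥤ A} (adj : F ⊣ G) [F.Additive] [F.Faithful] [PreservesFiniteLimits F]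
  [PreservesFilteredColimitsOfSize.{w, w} G] {ι : Type w} (s : ι → B)
  (hsep : ∀ ⦃X Y : B⦄ (f g : X ⟶ Y), (∀ (i : ι) (h : s i ⟶ X), h ≫ f = h ≫ g) → f = g)

omit [HasColimitsOfSize.{w, w} A] [HasColimitsOfSize.{w, w} B] [AB5OfSize.{w, w} B]
  [PreservesFilteredColimitsOfSize.{w, w} G] in
theorem noeth_of_map (a : A) [IsNoetherianObject (F.obj a)] : IsNoetherianObject a := by
  have mono : ∀ S : Subobject a, Mono (F.map S.arrow) := fun S => F.map_mono _
  refine mk_noeth (StrictMono.wellFoundedGT (f := fun S : Subobject a => Subobject.mk (F.map S.arrow))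
    fun S T h => lt_of_le_of_ne ?_ fun e => h.not_ge ?_)
  · exact Subobject.mk_le_mk_of_comm (F.map (Subobject.ofLE S T h.le)) (by rw [← F.map_comp, Subobject.ofLE_arrow])
  · have h2 : F.map (T.arrow ≫ cokernel.π S.arrow) = F.map 0 := by
      rw [F.map_comp, F.map_zero, ← Subobject.ofMkLEMk_comp e.ge, Category.assoc, ← F.map_comp,
        cokernel.condition, F.map_zero, comp_zero]
    have hS : (ShortComplex.mk S.arrow (cokernel.π S.arrow) (cokernel.condition _)).Exact :=
      ShortComplex.exact_of_g_is_cokernel _ (cokernelIsCokernel _)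
    exact Subobject.le_of_comm (hS.lift T.arrow (F.map_injective h2)) (hS.lift_f T.arrow _)

omit [HasColimitsOfSize.{w, w} A] [AB5OfSize.{w, w} B] [PreservesFilteredColimitsOfSize.{w, w} G] in
theorem exists_epi_fgSub {Y : B} (T : Finset (Σ i : ι, s i ⟶ Y)) :
    ∃ (k : ℕ) (f : Fin k → ι) (p : (∐ fun i => s (f i)) ⟶ (fgSub s T : B)), Epi p := by
  classical
  let e : ↥T ≃ Fin T.card := T.equivFin
  have hf : ∀ i : Fin T.card, (fgSub s T).Factors (e.symm i).1.2 := fun i =>
    Subobject.factors_of_le _ (Finset.le_sup (f := fun h : Σ i : ι, s i ⟶ Y => imageSubobject h.2) (e.symm i).2)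
      ((image_le_subobject_iff _ _).1 le_rfl)
  let p : (∐ fun i => s (e.symm i).1.1) ⟶ (fgSub s T : B) :=
    Sigma.desc fun i => (fgSub s T).factorThru _ (hf i)
  refine ⟨T.card, fun i => (e.symm i).1.1, p, ?_⟩
  have hle : fgSub s T ≤ imageSubobject (p ≫ (fgSub s T).arrow) := by
    refine Finset.sup_le fun h hh => ?_
    refine imageSubobject_le_of_fac' (eqToHom (by simp) ≫ Sigma.ι (fun i => s (e.symm i).1.1) (e ⟨h, hh⟩)) ?_
    simp [p]
    generalize_proofs h1 h2
    revert h1
    generalize hx : e.symm (e ⟨h, hh⟩) = x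
    rw [Equiv.symm_apply_apply] at hx
    subst hx
    intro h1; simp
  refine Preadditive.epi_of_cancel_zero _ fun {Z} z hz => ?_
  obtain ⟨W, π, hπ, y, hy⟩ := (image_le_iff (fgSub s T).arrow (p ≫ (fgSub s T).arrow)).1
    (((image_le_subobject_iff _ _).2 (factors_arrow_of_le le_rfl)).trans hle)
  have : π = y ≫ p := by rw [← cancel_mono (fgSub s T).arrow, hy, Category.assoc]
  rw [← cancel_epi π, comp_zero, this, Category.assoc, hz, comp_zero]

omit [HasColimitsOfSize.{w, w} A] [AB5OfSize.{w, w} B] [PreservesFilteredColimitsOfSize.{w, w} G] in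
theorem noeth_fgSub (hsN : ∀ i, IsNoetherianObject (s i)) {Y : B} (T : Finset (Σ i : ι, s i ⟶ Y)) :
    IsNoetherianObject (fgSub s T : B) := by
  obtain ⟨k, f, p, hp⟩ := exists_epi_fgSub s T
  haveI := noeth_sigma k (fun i => s (f i)) fun i => hsN _
  exact noeth_of_epi p

include adj hsep in
theorem noeth_iff (hsN : ∀ i, IsNoetherianObject (s i)) (a : A) :
    IsNoetherianObject a ↔ IsNoetherianObject (F.obj a) := by
  refine ⟨fun h => ?_, fun h => noeth_of_map (F := F) a⟩
  obtain ⟨T, hT⟩ := exists_fgSub_eq_top adj s hsep a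
  haveI := noeth_fgSub s hsN T
  haveI : IsIso (fgSub s T).arrow := by rw [hT]; infer_instance
  exact noeth_of_iso (asIso (fgSub s T).arrow)

include adj in
omit [PreservesFilteredColimitsOfSize.{w, w} G] in
theorem mono_snd_trace {a : A} (n : Subobject (F.obj a)) :
    Mono (pullback.snd (adj.unit.app a) (G.map n.arrow)) :=
  haveI := mono_unit_app adj a
  inferInstance

include adj hsep in
theorem exists_noeth_family (hsN : ∀ i, IsNoetherianObject (s i)) :
    ∃ (κ : Type w) (t : κ → A), (∀ k, IsNoetherianObject (t k)) ∧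
      ∀ ⦃X Y : A⦄ (f g : X ⟶ Y), (∀ (k : κ) (h : t k ⟶ X), h ≫ f = h ≫ g) → f = g := by
  classical
  haveI : HasSeparator B := ⟨_, (isSeparator_sigma s).2 fun X Y f g h =>
    hsep f g fun i k => h (s i) ⟨i⟩ k⟩
  haveI : HasDetector B := HasSeparator.hasDetector
  haveI : WellPowered.{w} B := HasDetector.wellPowered
  let src : (Σ k : ℕ, Fin k → ι) → B := fun L => ∐ fun i => s (L.2 i)
  haveI : ∀ X : A, Small.{w} (Subobject X) := small_subobject adj
  let t₀ : (Σ L : Σ k : ℕ, Fin k → ι, Σ K : Shrink.{w} (Subobject (src L)),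
      Shrink.{w} (Subobject (G.obj (cokernel ((equivShrink.{w} _).symm K).arrow)))) → A :=
    fun x => (((equivShrink.{w} _).symm x.2.2 : Subobject _) : A)
  refine ⟨{x // IsNoetherianObject (t₀ x)}, fun x => t₀ x.1, fun x => x.2, fun X Y f g hfg => ?_⟩
  rw [← sub_eq_zero]
  refine jointlyEpi_trace adj s hsep X (f - g) fun T => ?_
  obtain ⟨k, L, p, hp⟩ := exists_epi_fgSub s T
  let K : Subobject (src ⟨k, L⟩) := kernelSubobject p
  let K' : Shrink.{w} (Subobject (src ⟨k, L⟩)) := equivShrink.{w} _ K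
  have hK : (equivShrink.{w} (Subobject (src ⟨k, L⟩))).symm K' = K := Equiv.symm_apply_apply _ _
  let e : (fgSub s T : B) ≅ cokernel ((equivShrink.{w} (Subobject (src ⟨k, L⟩))).symm K').arrow :=
    ((Abelian.epiIsCokernelOfKernel (KernelFork.ofι K.arrow (kernelSubobject_arrow_comp p))
      (IsLimit.ofIsoLimit (kernelIsKernel p) (Fork.ext (kernelSubobjectIso p).symm
        (kernelSubobject_arrow' p)))).coconePointUniqueUpToIso (cokernelIsCokernel K.arrow)) ≪≫
      eqToIso (by rw [hK]; rfl)
  haveI := mono_snd_trace adj (fgSub s T)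
  let m : trace adj (fgSub s T) ⟶ G.obj (cokernel ((equivShrink.{w} (Subobject (src ⟨k, L⟩))).symm K').arrow) :=
    pullback.snd _ _ ≫ G.map e.hom
  haveI : PreservesLimitsOfSize.{0, 0} G := adj.rightAdjoint_preservesLimits
  haveI : Mono m := mono_comp _ _
  let x : Σ L : Σ k : ℕ, Fin k → ι, Σ K : Shrink.{w} (Subobject (src L)),
      Shrink.{w} (Subobject (G.obj (cokernel ((equivShrink.{w} _).symm K).arrow))) :=
    ⟨⟨k, L⟩, K', equivShrink.{w} _ (Subobject.mk m)⟩
  let i : t₀ x ≅ trace adj (fgSub s T) :=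
    eqToIso (show t₀ x = (Subobject.mk m : A) by simp [t₀, x]) ≪≫ Subobject.underlyingIso m
  haveI : IsNoetherianObject (trace adj (fgSub s T)) := by
    haveI := noeth_fgSub s hsN T
    haveI : Mono (F.map (traceι adj (fgSub s T))) := F.map_mono _
    haveI : Mono ((adj.homEquiv _ _).symm (pullback.snd (adj.unit.app X) (G.map (fgSub s T).arrow))) :=
      mono_of_mono_fac (mono_map_trace adj (fgSub s T))
    haveI : IsNoetherianObject (F.obj (trace adj (fgSub s T))) :=
      isNoetherianObject_of_mono ((adj.homEquiv _ _).symm (pullback.snd (adj.unit.app X) (G.map (fgSub s T).arrow)))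
    exact noeth_of_map (F := F) _
  haveI : IsNoetherianObject (t₀ x) := noeth_of_iso i.symm
  have := hfg ⟨x, this⟩ (i.hom ≫ traceι adj (fgSub s T))
  rw [Category.assoc, Category.assoc, cancel_epi] at this
  rw [Preadditive.comp_sub, this, sub_self]

section Generator

variable (s₀ : B) (hs₀ : IsSeparator s₀)

include adj hs₀ in
theorem hasSeparator : HasSeparator A := by
  classical
  haveI : HasSeparator B := ⟨s₀, hs₀⟩
  haveI : HasDetector B := HasSeparator.hasDetector
  haveI : WellPowered.{w} B := HasDetector.wellPowered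
  haveI : ∀ X : A, Small.{w} (Subobject X) := small_subobject adj
  haveI := adj.leftAdjoint_preservesColimits
  have hsep' : ∀ ⦃X Y : B⦄ (f g : X ⟶ Y), (∀ (_ : PUnit.{w + 1}) (h : s₀ ⟶ X), h ≫ f = h ≫ g) → f = g :=
    fun X Y f g h => hs₀.def f g fun k => h PUnit.unit k
  let M := Shrink.{w} (Subobject s₀) × ℕ
  let S : B := ∐ fun _ : M => s₀
  let t : (Σ K : Shrink.{w} (Subobject S),
      Shrink.{w} (Subobject (G.obj (cokernel ((equivShrink.{w} _).symm K).arrow)))) → A :=
    fun x => (((equivShrink.{w} _).symm x.2 : Subobject _) : A)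
  suffices h : ∀ ⦃X Y : A⦄ (f g : X ⟶ Y), (∀ k (h : t k ⟶ X), h ≫ f = h ≫ g) → f = g from
    ⟨∐ t, (isSeparator_sigma t).2 fun X Y f g hfg => h f g fun k h => hfg (t k) ⟨k⟩ h⟩
  intro X Y f g hfg
  apply F.map_injective
  refine hs₀.def _ _ fun h => ?_
  -- the functor of traces
  let n : Finset (Σ _ : PUnit.{w + 1}, s₀ ⟶ F.obj X) → Subobject (F.obj X) := fgSub (fun _ => s₀)
  have hn : Monotone n := fun T T' h => Finset.sup_mono h
  have hcond : ∀ {U V : Subobject (F.obj X)} (hUV : U ≤ V), traceι adj U ≫ adj.unit.app X =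
      (pullback.snd (adj.unit.app X) (G.map U.arrow) ≫ G.map (Subobject.ofLE U V hUV)) ≫ G.map V.arrow :=
    fun hUV => by rw [Category.assoc, ← G.map_comp, Subobject.ofLE_arrow, pullback.condition]
  let tr : ∀ {U V : Subobject (F.obj X)}, U ≤ V → (trace adj U ⟶ trace adj V) := fun {U V} hUV =>
    pullback.lift (traceι adj U) (pullback.snd _ _ ≫ G.map (Subobject.ofLE U V hUV)) (hcond hUV)
  have tr_fst : ∀ {U V : Subobject (F.obj X)} (hUV : U ≤ V), tr hUV ≫ traceι adj V = traceι adj U :=
    fun hUV => pullback.lift_fst _ _ _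
  haveI := mono_unit_app adj X
  haveI : ∀ U : Subobject (F.obj X), Mono (traceι adj U) := fun U => by
    haveI : PreservesLimitsOfSize.{0, 0} G := adj.rightAdjoint_preservesLimits
    infer_instance
  let P : Finset (Σ _ : PUnit.{w + 1}, s₀ ⟶ F.obj X) ⥤ A :=
    { obj := fun T => trace adj (n T)
      map := fun {T T'} φ => tr (hn (leOfHom φ))
      map_id := fun T => by rw [← cancel_mono (traceι adj (n T)), tr_fst, Category.id_comp]
      map_comp := fun {T T' T''} φ ψ => by
        rw [← cancel_mono (traceι adj (n T'')), tr_fst, Category.assoc, tr_fst, tr_fst] }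
  let γ : P ⋙ F ⟶ (Functor.const _).obj (F.obj X) :=
    { app := fun T => F.map (traceι adj (n T))
      naturality := fun T T' φ => by
        dsimp [P]; rw [← F.map_comp, tr_fst, Category.comp_id] }
  have hje := jointlyEpi_pullback γ
    (jointlyEpi_map adj (fun T => traceι adj (n T)) (jointlyEpi_trace adj (fun _ : PUnit.{w + 1} => s₀) hsep' X)) h
  -- a small family of finite subsets
  let R : Finset (Σ _ : PUnit.{w + 1}, s₀ ⟶ F.obj X) → Shrink.{w} (Subobject s₀) := fun T =>
    equivShrink.{w} _ (imageSubobject (pullback.fst h (γ.app T)))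
  let gM : M → (s₀ ⟶ F.obj X) := fun m =>
    if hm : ∃ T, R T = m.1 then
      (if hk : m.2 < hm.choose.card then (hm.choose.equivFin.symm ⟨m.2, hk⟩).1.2 else 0) else 0
  let n' : Subobject (F.obj X) := imageSubobject (Sigma.desc gM)
  have hn' : ∀ T, ∃ T', R T' = R T ∧ n T' ≤ n' := fun T => by
    have hm : ∃ T', R T' = R T := ⟨T, rfl⟩
    refine ⟨hm.choose, hm.choose_spec, Finset.sup_le fun y hy => ?_⟩
    let k := hm.choose.equivFin ⟨y, hy⟩
    refine imageSubobject_le_of_fac' (Sigma.ι (fun _ : M => s₀) (R T, k.1)) ?_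
    rw [Sigma.ι_desc]
    simp only [gM, dif_pos hm, dif_pos k.2]
    simp [k]
  haveI : Mono (F.map (traceι adj n')) := F.map_mono _
  let q := pullback.fst h (F.map (traceι adj n'))
  have hq : cokernel.π q = 0 := hje _ fun T => by
    obtain ⟨T', hR, hle⟩ := hn' T
    have e : imageSubobject (pullback.fst h (γ.app T)) = imageSubobject (pullback.fst h (γ.app T')) :=
      (equivShrink.{w} _).injective hR.symm
    have hle' : imageSubobject (pullback.fst h (γ.app T')) ≤ imageSubobject q :=
      imageSubobject_le_of_fac' (pullback.lift (pullback.fst _ _) (pullback.snd _ _ ≫ F.map (tr hle))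
        (by rw [Category.assoc, ← F.map_comp, tr_fst, pullback.condition])) (pullback.lift_fst _ _ _)
    have hf : (imageSubobject q).Factors (pullback.fst h (γ.app T)) :=
      Subobject.factors_of_le _ (e.le.trans hle') ((image_le_subobject_iff _ _).1 le_rfl)
    rw [← Subobject.factorThru_arrow _ _ hf, Category.assoc,
      imageSubobject_arrow_comp_eq_zero (cokernel.condition q), comp_zero]
  haveI : Epi q := Preadditive.epi_of_cancel_zero _ fun {Z} z hz => by
    rw [← cokernel.π_desc q z hz, hq, zero_comp]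
  haveI : IsIso q := isIso_of_mono_of_epi q
  have hfac : h = (inv q ≫ pullback.snd _ _) ≫ F.map (traceι adj n') := by
    rw [Category.assoc, ← pullback.condition, IsIso.inv_hom_id_assoc]
  simp only [hfac, Category.assoc, ← F.map_comp]
  refine congrArg (fun t => inv q ≫ pullback.snd _ _ ≫ F.map t) ?_
  -- the trace is one of the objects of the family
  let p : S ⟶ (n' : B) := factorThruImageSubobject (Sigma.desc gM)
  haveI : Epi p := inferInstance
  let K' : Shrink.{w} (Subobject S) := equivShrink.{w} _ (kernelSubobject p)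
  let e : (n' : B) ≅ cokernel ((equivShrink.{w} (Subobject S)).symm K').arrow :=
    ((Abelian.epiIsCokernelOfKernel (KernelFork.ofι (kernelSubobject p).arrow (kernelSubobject_arrow_comp p))
      (IsLimit.ofIsoLimit (kernelIsKernel p) (Fork.ext (kernelSubobjectIso p).symm
        (kernelSubobject_arrow' p)))).coconePointUniqueUpToIso (cokernelIsCokernel (kernelSubobject p).arrow)) ≪≫
      eqToIso (by rw [show (equivShrink.{w} (Subobject S)).symm K' = kernelSubobject p from Equiv.symm_apply_apply _ _]; rfl)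
  haveI := mono_snd_trace adj n'
  haveI : PreservesLimitsOfSize.{0, 0} G := adj.rightAdjoint_preservesLimits
  let m : trace adj n' ⟶ G.obj (cokernel ((equivShrink.{w} (Subobject S)).symm K').arrow) :=
    pullback.snd _ _ ≫ G.map e.hom
  haveI : Mono m := mono_comp _ _
  let i : t ⟨K', equivShrink.{w} _ (Subobject.mk m)⟩ ≅ trace adj n' :=
    eqToIso (show _ = (Subobject.mk m : A) by simp [t]) ≪≫ Subobject.underlyingIso m
  have := hfg _ (i.hom ≫ traceι adj n')
  rwa [Category.assoc, Category.assoc, cancel_epi] at this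

end Generator

end Groth.Agent.AdjGroth8
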