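import Groth.Agent.Lib.ARSys.Sub
import Mathlib.CategoryTheory.Subobject.NoetherianObject
import Mathlib.Algebra.Homology.ShortComplex.ShortExact
import Mathlib.CategoryTheory.Abelian.Refinements
import Mathlib.CategoryTheory.Limits.Shapes.FiniteLimits
import Mathlib.Data.Fintype.Option

/-!
# Noetherian objects: extensions, quotients, finite coproducts
-/

set_option autoImplicit false

universe v u

open CategoryTheory CategoryTheory.Limits Groth.Agent.AR

namespace Groth.Agent.AdjGroth8

variable {C : Type u} [Category.{v} C] [Abelian C]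

theorem mk_noeth {X : C} (h : WellFoundedGT (Subobject X)) : IsNoetherianObject X :=
  (ObjectProperty.is_iff _ _).2 h

theorem noeth_of_shortExact {S : ShortComplex C} (hS : S.ShortExact) [IsNoetherianObject S.X₁]
    [IsNoetherianObject S.X₃] : IsNoetherianObject S.X₂ := by
  refine mk_noeth (StrictMono.wellFoundedGT (f := fun U => (preim S.f U, img S.g U)) fun U V hUV => ?_)
  refine lt_of_le_of_ne ⟨(gc_img S.f).monotone_u hUV.le, (gc_img S.g).monotone_l hUV.le⟩ fun e => ?_
  obtain ⟨e1, e2⟩ := Prod.mk.inj e
  refine hUV.not_ge (le_of_forall_factors fun W x hx => ?_)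
  have h2 : (img S.g U).Factors (x ≫ S.g) := by rw [e2]; exact img_factors _ hx
  obtain ⟨W', π, hπ, u, hu, eu⟩ := (factors_img_iff S.g U _).1 h2
  obtain ⟨W'', π', hπ', k, hk⟩ := hS.exact.exact_up_to_refinements (π ≫ x - u)
    (by rw [Preadditive.sub_comp, Category.assoc, eu, sub_self])
  have h1 : (preim S.f U).Factors k := by
    rw [e1, preim_factors, ← hk]
    exact Subobject.factors_of_factors_right _ (factors_sub (Subobject.factors_of_factors_right _ hx)
      (Subobject.factors_of_le _ hUV.le hu))
  refine factors_of_epi_comp π x (factors_of_epi_comp π' _ ?_)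
  rw [show π' ≫ π ≫ x = k ≫ S.f + π' ≫ u by rw [← hk, Preadditive.comp_sub]; abel]
  exact Subobject.factors_add _ _ ((preim_factors _ _ _).1 h1) (Subobject.factors_of_factors_right _ hu)

theorem noeth_of_epi {X Y : C} (g : X ⟶ Y) [Epi g] [IsNoetherianObject X] : IsNoetherianObject Y := by
  refine mk_noeth (StrictMono.wellFoundedGT (f := fun U => preim g U) fun U V hUV => ?_)
  refine lt_of_le_of_ne ((gc_img g).monotone_u hUV.le) fun e => ?_
  refine hUV.not_ge (le_of_forall_factors fun W y hy => ?_)
  obtain ⟨W', π, hπ, x, hx⟩ := surjective_up_to_refinements_of_epi g y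
  refine factors_of_epi_comp π y ?_
  rw [hx, ← preim_factors, show preim g U = preim g V from e, preim_factors, ← hx]
  exact Subobject.factors_of_factors_right _ hy

theorem noeth_of_iso {X Y : C} (e : X ≅ Y) [IsNoetherianObject X] : IsNoetherianObject Y :=
  noeth_of_epi e.hom

theorem noeth_biprod (X Y : C) [IsNoetherianObject X] [IsNoetherianObject Y] : IsNoetherianObject (X ⊞ Y) := by
  let S : ShortComplex C := ShortComplex.mk (biprod.inl : X ⟶ X ⊞ Y) biprod.snd (by simp)
  haveI : IsNoetherianObject S.X₁ := ‹IsNoetherianObject X›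
  haveI : IsNoetherianObject S.X₃ := ‹IsNoetherianObject Y›
  exact noeth_of_shortExact (S := S)
    { exact := (ShortComplex.Splitting.mk biprod.fst biprod.inr (by simp [S]) (by simp [S])
        (by simp [S]) : S.Splitting).exact
      mono_f := inferInstanceAs (Mono biprod.inl)
      epi_g := inferInstanceAs (Epi biprod.snd) }

theorem noeth_sigma : ∀ (k : ℕ) (f : Fin k → C) [HasCoproduct f], (∀ i, IsNoetherianObject (f i)) →
    IsNoetherianObject (∐ f)
  | 0, f, _, _ => isNoetherianObject_of_isZero (by
      rw [IsZero.iff_id_eq_zero]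
      exact Sigma.hom_ext _ _ fun i => i.elim0)
  | k + 1, f, _, h => by
    haveI := noeth_sigma k (fun i : Fin k => f i.succ) fun i => h i.succ
    haveI := h 0
    haveI := noeth_biprod (f 0) (∐ fun i : Fin k => f i.succ)
    let g : f 0 ⊞ (∐ fun i : Fin k => f i.succ) ⟶ ∐ f :=
      biprod.desc (Sigma.ι f 0) (Sigma.desc fun i : Fin k => Sigma.ι f i.succ)
    haveI : Epi g := Preadditive.epi_of_cancel_zero _ fun {Z} z hz => Sigma.hom_ext _ _ fun i => by
      refine Fin.cases ?_ (fun j => ?_) i
      · have := congrArg (biprod.inl ≫ ·) hz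
        simpa [g] using this
      · have := congrArg (fun t => Sigma.ι (fun i : Fin k => f i.succ) j ≫ biprod.inr ≫ t) hz
        simpa [g] using this
    exact noeth_of_epi g

end Groth.Agent.AdjGroth8
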